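import Cfsg.Agent.H186.F43.BoxAFin

/-!
# `F₄(3)`: box T2, `m₀ ≤ (13/243) b` with `b = (χ(1) - χ(z))/3` (S2464; helper186)
-/

set_option autoImplicit false

namespace Cfsg.Agent.H186.F43

open Cfsg.Lie Cfsg.Agent.H700.F43
open Module

universe v

theorem re_omega {ω : ℂ} (hω : 1 + ω + ω ^ 2 = 0) : ω.re = -1 / 2 ∧ (ω ^ 2).re = -1 / 2 := by
  have h1 := congrArg Complex.re hω
  have h2 := congrArg Complex.im hω
  simp only [Complex.add_re, Complex.one_re, Complex.add_im, Complex.one_im, pow_two, Complex.mul_re, Complex.mul_im,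
    Complex.zero_re, Complex.zero_im] at h1 h2
  have h3 : ω.im * (1 + 2 * ω.re) = 0 := by linarith
  have h4 : ω.im ≠ 0 := by
    intro h0
    rw [h0] at h1
    nlinarith [sq_nonneg (ω.re + 1 / 2)]
  have h5 : ω.re = -1 / 2 := by
    rcases mul_eq_zero.1 h3 with h | h
    · exact absurd h h4
    · linarith
  refine ⟨h5, ?_⟩
  rw [pow_two, Complex.mul_re]
  rw [h5] at h1 ⊢
  linarith

/-- `Re χ(t) = χ(1) - (3/2) dim [V, t]` for `t³ = 1` -/
theorem re_trace {G : Type*} [Group G] {V : Type v} [AddCommGroup V] [Module ℂ V] [FiniteDimensional ℂ V]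
    (ρ : Representation ℂ G V) {t : G} (ht : t ^ 3 = 1) :
    (LinearMap.trace ℂ V (ρ t)).re = (finrank ℂ V : ℝ) - 3 / 2 * ((finrank ℂ V : ℝ) - finrank ℂ ↥(fx ρ {t})) := by
  obtain ⟨ω, hω, hω1⟩ := exists_omega
  have hω3 : ω ^ 3 = 1 := by linear_combination (ω - 1) * hω
  have hω6 : (ω ^ 2) ^ 3 = 1 := by linear_combination (ω ^ 3 + 1) * hω3
  have h1 : ei ρ t 1 = fx ρ {t} := by
    ext v
    rw [mem_ei, one_smul]
    constructor
    · rintro h g rfl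
      exact h
    · intro h
      exact h t rfl
  have h2 := trace_pj ρ ht (one_pow 3)
  have h3 := trace_pj ρ ht hω3
  have h4 := trace_pj ρ ht hω6
  rw [h1] at h2
  have e1 : ∀ μ : ℂ, μ ^ 3 = 1 → ∀ v, ρ t (pj ρ t μ v) = μ • pj ρ t μ v := fun μ hμ v => pj_mem ρ ht hμ v
  have h5 : ρ t = pj ρ t 1 + ω • pj ρ t ω + ω ^ 2 • pj ρ t (ω ^ 2) := by
    apply LinearMap.ext
    intro v
    conv_lhs => rw [← pj_sum ρ (t := t) hω v]
    rw [map_add, map_add, e1 1 (one_pow 3), e1 ω hω3, e1 _ hω6, one_smul]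
    rfl
  have h6 := congrArg (LinearMap.trace ℂ V) h5
  rw [map_add, map_add, map_smul, map_smul, h2, h3, h4, smul_eq_mul, smul_eq_mul] at h6
  have h7 := nn3_add ρ ht hω
  rw [nn3] at h7
  have h8 : (finrank ℂ V : ℝ) = (finrank ℂ ↥(ei ρ t ω) : ℝ) + finrank ℂ ↥(ei ρ t (ω ^ 2)) + finrank ℂ ↥(fx ρ {t}) := by
    exact_mod_cast h7.symm
  obtain ⟨r1, r2⟩ := re_omega hω
  rw [h6, h8]
  simp only [Complex.add_re, Complex.mul_re, Complex.natCast_re, Complex.natCast_im, mul_zero, sub_zero, r1, r2]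
  ring

/-- **Box T2.** `m₀ ≤ (13/243) b`, `b = (χ(1) - Re χ(z))/3`. -/
theorem m0_le {V : Type v} [AddCommGroup V] [Module ℂ V] [FiniteDimensional ℂ V] (ρ : Representation ℂ Gm V)
    (h : fx ρ Set.univ = ⊥) :
    (finrank ℂ ↥(fx ρ (QQ : Set Gm)) : ℝ) ≤
      13 / 243 * (((finrank ℂ V : ℝ) - (LinearMap.trace ℂ V (ρ (xp 47))).re) / 3) := by
  have h1 := boxA ρ h
  have h2 := re_trace ρ (xp_pow3 (r := 47) (by norm_num))
  have h3 : finrank ℂ ↥(fx ρ {xp 47}) ≤ finrank ℂ V := Submodule.finrank_le _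
  rw [h2]
  have h4 : (2187 : ℝ) * finrank ℂ ↥(fx ρ (QQ : Set Gm)) ≤ 55 * ((finrank ℂ V : ℝ) - finrank ℂ ↥(fx ρ {xp 47})) := by
    have h5 : ((2187 * finrank ℂ ↥(fx ρ (QQ : Set Gm)) : ℕ) : ℝ) ≤
        ((55 * (finrank ℂ V - finrank ℂ ↥(fx ρ {xp 47})) : ℕ) : ℝ) := Nat.cast_le.2 h1
    rw [Nat.cast_mul, Nat.cast_mul, Nat.cast_sub h3] at h5
    exact_mod_cast h5
  have h6 : (0 : ℝ) ≤ (finrank ℂ V : ℝ) - finrank ℂ ↥(fx ρ {xp 47}) := by
    rw [sub_nonneg]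
    exact_mod_cast h3
  linarith

end Cfsg.Agent.H186.F43
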