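import Mathlib

/-!
# Fixed spaces of isotropic subgroups (abstract part of the row F₄(3) of S2464; helper186)

* `fx ρ S`, `ei ρ t μ` : fixed space of a set, `μ`-eigenspace of `ρ t`;
* `Iso t I` : every `i ∈ I`, `i ≠ 1`, has a `w` commuting with `t` with `[w, i] = t^{±1}`;
* `card_mul_finrank` : `|I| · dim (E ⊓ fix I) = dim E` for `E = ei ρ t μ`, `μ ≠ 1`;
* `step` : `F ≤ fix I` : `dim F ≤ dim (F ⊓ fix t) + dim (E_ω ⊓ fix I) + dim (E_ω² ⊓ fix I)`;
* `ei_conj` : conjugate elements.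
-/

set_option autoImplicit false

namespace Cfsg.Agent.H186.F43

open Module

universe u v

variable {G : Type u} [Group G] {V : Type v} [AddCommGroup V] [Module ℂ V] (ρ : Representation ℂ G V)

/-- the fixed space of a set -/
def fx (S : Set G) : Submodule ℂ V where
  carrier := {v | ∀ g ∈ S, ρ g v = v}
  add_mem' := fun {a b} ha hb g hg => by rw [map_add, ha g hg, hb g hg]
  zero_mem' := fun g _ => map_zero _
  smul_mem' := fun c v hv g hg => by rw [map_smul, hv g hg]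

/-- the eigenspace -/
def ei (t : G) (μ : ℂ) : Submodule ℂ V where
  carrier := {v | ρ t v = μ • v}
  add_mem' := fun {a b} ha hb => by
    show ρ t (a + b) = μ • (a + b)
    rw [map_add, show ρ t a = μ • a from ha, show ρ t b = μ • b from hb, smul_add]
  zero_mem' := by
    show ρ t 0 = μ • (0 : V)
    rw [map_zero, smul_zero]
  smul_mem' := fun c v hv => by
    show ρ t (c • v) = μ • (c • v)
    rw [map_smul, show ρ t v = μ • v from hv, smul_comm]

omit ρ in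
theorem mm (ρ : Representation ℂ G V) (a b : G) (v : V) : ρ (a * b) v = ρ a (ρ b v) := by rw [map_mul]; rfl

theorem mem_fx {S : Set G} {v : V} : v ∈ fx ρ S ↔ ∀ g ∈ S, ρ g v = v := Iff.rfl

theorem mem_ei {t : G} {μ : ℂ} {v : V} : v ∈ ei ρ t μ ↔ ρ t v = μ • v := Iff.rfl

/-- isotropic subgroups -/
structure Iso (t : G) (I : Subgroup G) : Prop where
  cube : t ^ 3 = 1
  comm : ∀ i ∈ I, i * t = t * i
  nd : ∀ i ∈ I, i ≠ 1 → ∃ w : G, w * t = t * w ∧ (w * i = t * i * w ∨ w * i = t⁻¹ * i * w)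

theorem Iso.conj {t : G} {I : Subgroup G} (h : Iso t I) (g : G) :
    Iso (g * t * g⁻¹) (I.map (MulAut.conj g).toMonoidHom) := by
  refine ⟨?_, ?_, ?_⟩
  · rw [conj_pow, h.cube, mul_one, mul_inv_cancel]
  · rintro _ ⟨i, hi, rfl⟩
    show (g * i * g⁻¹) * (g * t * g⁻¹) = (g * t * g⁻¹) * (g * i * g⁻¹)
    have := h.comm i hi
    calc (g * i * g⁻¹) * (g * t * g⁻¹) = g * (i * t) * g⁻¹ := by group
      _ = g * (t * i) * g⁻¹ := by rw [this]
      _ = _ := by group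
  · rintro _ ⟨i, hi, rfl⟩ hne
    have hi1 : i ≠ 1 := by
      rintro rfl
      exact hne (map_one _)
    obtain ⟨w, h1, h2⟩ := h.nd i hi hi1
    refine ⟨g * w * g⁻¹, ?_, ?_⟩
    · calc (g * w * g⁻¹) * (g * t * g⁻¹) = g * (w * t) * g⁻¹ := by group
        _ = g * (t * w) * g⁻¹ := by rw [h1]
        _ = _ := by group
    · rcases h2 with h2 | h2
      · left
        show (g * w * g⁻¹) * (g * i * g⁻¹) = (g * t * g⁻¹) * (g * i * g⁻¹) * (g * w * g⁻¹)
        calc (g * w * g⁻¹) * (g * i * g⁻¹) = g * (w * i) * g⁻¹ := by group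
          _ = g * (t * i * w) * g⁻¹ := by rw [h2]
          _ = _ := by group
      · right
        show (g * w * g⁻¹) * (g * i * g⁻¹) = (g * t * g⁻¹)⁻¹ * (g * i * g⁻¹) * (g * w * g⁻¹)
        calc (g * w * g⁻¹) * (g * i * g⁻¹) = g * (w * i) * g⁻¹ := by group
          _ = g * (t⁻¹ * i * w) * g⁻¹ := by rw [h2]
          _ = _ := by group

theorem card_conj (I : Subgroup G) (g : G) : Nat.card ↥(I.map (MulAut.conj g).toMonoidHom) = Nat.card ↥I :=
  (Nat.card_congr (I.equivMapOfInjective _ (MulAut.conj g).injective).toEquiv).symm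

/-- one more generator -/
theorem Iso.sup {t b s : G} {I : Subgroup G} (h : Iso t I) (hb : b ^ 3 = 1) (ht : t ≠ 1) (hbt : b * t = t * b)
    (hst : s * t = t * s) (hbI : ∀ i ∈ I, i * b = b * i) (hsI : ∀ i ∈ I, i * s = s * i)
    (hsb : s * b = t * b * s ∨ s * b = t⁻¹ * b * s) {n : ℕ} (hn : Nat.card ↥I = n) :
    ∃ J : Subgroup G, I ≤ J ∧ b ∈ J ∧ (∀ j ∈ J, ∃ i ∈ I, ∃ k : ℕ, j = i * b ^ k) ∧ Iso t J ∧ Nat.card ↥J = 3 * n := by
  classical
  have ht3 : t * (t * t) = 1 := by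
    have := h.cube
    rwa [pow_succ, pow_two, mul_assoc] at this
  have hinv : t * t = t⁻¹ := (inv_eq_of_mul_eq_one_right ht3).symm
  have hpow : ∀ (k : ℕ), ∀ i ∈ I, i * b ^ k = b ^ k * i := fun k i hi => ((show Commute i b from hbI i hi).pow_right k).eq
  let J : Subgroup G :=
    { carrier := {j | ∃ i ∈ I, ∃ k : ℕ, j = i * b ^ k}
      mul_mem' := by
        rintro _ _ ⟨i, hi, k, rfl⟩ ⟨i', hi', k', rfl⟩
        refine ⟨i * i', I.mul_mem hi hi', k + k', ?_⟩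
        rw [pow_add]
        calc i * b ^ k * (i' * b ^ k') = i * (b ^ k * i') * b ^ k' := by group
          _ = i * (i' * b ^ k) * b ^ k' := by rw [hpow k i' hi']
          _ = _ := by group
      one_mem' := ⟨1, I.one_mem, 0, by simp⟩
      inv_mem' := by
        rintro _ ⟨i, hi, k, rfl⟩
        refine ⟨i⁻¹, I.inv_mem hi, 2 * k, ?_⟩
        have h3 : b ^ (2 * k) = (b ^ k)⁻¹ := by
          rw [eq_inv_iff_mul_eq_one, ← pow_add, show 2 * k + k = 3 * k by ring, pow_mul, hb, one_pow]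
        rw [hpow _ _ (I.inv_mem hi), h3, mul_inv_rev] }
  have hIJ : I ≤ J := fun i hi => ⟨i, hi, 0, by simp⟩
  have hbJ : b ∈ J := ⟨1, I.one_mem, 1, by simp⟩
  -- the commutator of `s` with `i b ^ k`
  have sc : ∀ i ∈ I, s * i = i * s := fun i hi => (hsI i hi).symm
  have tb : ∀ i ∈ I, t * i = i * t := fun i hi => (h.comm i hi).symm
  have key1 : ∀ i ∈ I, s * (i * b) = t * (i * b) * s ∨ s * (i * b) = t⁻¹ * (i * b) * s := by
    intro i hi
    rcases hsb with h1 | h1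
    · left
      calc s * (i * b) = i * (s * b) := by rw [← mul_assoc, sc i hi, mul_assoc]
        _ = i * (t * b * s) := by rw [h1]
        _ = (i * t) * b * s := by group
        _ = (t * i) * b * s := by rw [tb i hi]
        _ = _ := by group
    · right
      have h2 : i * t⁻¹ = t⁻¹ * i := ((show Commute i t from h.comm i hi).inv_right).eq
      calc s * (i * b) = i * (s * b) := by rw [← mul_assoc, sc i hi, mul_assoc]
        _ = i * (t⁻¹ * b * s) := by rw [h1]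
        _ = (i * t⁻¹) * b * s := by group
        _ = (t⁻¹ * i) * b * s := by rw [h2]
        _ = _ := by group
  have key2 : ∀ i ∈ I, s * (i * b ^ 2) = t * (i * b ^ 2) * s ∨ s * (i * b ^ 2) = t⁻¹ * (i * b ^ 2) * s := by
    intro i hi
    have h2 : i * t⁻¹ = t⁻¹ * i := ((show Commute i t from h.comm i hi).inv_right).eq
    rcases hsb with h1 | h1
    · right
      have h3 : s * b ^ 2 = t⁻¹ * b ^ 2 * s := by
        rw [pow_two, ← hinv]
        calc s * (b * b) = (s * b) * b := by group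
          _ = (t * b * s) * b := by rw [h1]
          _ = t * b * (s * b) := by group
          _ = t * b * (t * b * s) := by rw [h1]
          _ = t * (b * t) * b * s := by group
          _ = t * (t * b) * b * s := by rw [hbt]
          _ = _ := by group
      calc s * (i * b ^ 2) = i * (s * b ^ 2) := by rw [← mul_assoc, sc i hi, mul_assoc]
        _ = (i * t⁻¹) * b ^ 2 * s := by rw [h3]; group
        _ = (t⁻¹ * i) * b ^ 2 * s := by rw [h2]
        _ = _ := by group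
    · left
      have hbt' : b * t⁻¹ = t⁻¹ * b := ((show Commute b t from hbt).inv_right).eq
      have hinv' : t⁻¹ * t⁻¹ = t := by rw [← hinv, mul_assoc, ht3, mul_one]
      have h3 : s * b ^ 2 = t * b ^ 2 * s := by
        rw [pow_two]
        calc s * (b * b) = (s * b) * b := by group
          _ = (t⁻¹ * b * s) * b := by rw [h1]
          _ = t⁻¹ * b * (s * b) := by group
          _ = t⁻¹ * b * (t⁻¹ * b * s) := by rw [h1]
          _ = t⁻¹ * (b * t⁻¹) * b * s := by group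
          _ = t⁻¹ * (t⁻¹ * b) * b * s := by rw [hbt']
          _ = (t⁻¹ * t⁻¹) * (b * b) * s := by group
          _ = _ := by rw [hinv']
      calc s * (i * b ^ 2) = i * (s * b ^ 2) := by rw [← mul_assoc, sc i hi, mul_assoc]
        _ = (i * t) * b ^ 2 * s := by rw [h3]; group
        _ = (t * i) * b ^ 2 * s := by rw [tb i hi]
        _ = _ := by group
  -- `b ∉ I`
  have notI : ∀ k : ℕ, k < 3 → k ≠ 0 → b ^ k ∉ I := by
    intro k hk hk0 hmem
    have h4 : s * b ^ k = b ^ k * s := sc _ hmem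
    have h5 : s * b ^ k = t * b ^ k * s ∨ s * b ^ k = t⁻¹ * b ^ k * s := by
      have h6 : k = 1 ∨ k = 2 := by omega
      rcases h6 with rfl | rfl
      · have := key1 1 I.one_mem
        rwa [one_mul, ← pow_one b] at this
      · have := key2 1 I.one_mem
        rwa [one_mul] at this
    rcases h5 with h5 | h5
    · rw [h4, mul_assoc] at h5
      exact ht (mul_eq_right.1 h5.symm)
    · rw [h4, mul_assoc] at h5
      exact ht (inv_eq_one.1 (mul_eq_right.1 h5.symm))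
  refine ⟨J, hIJ, hbJ, fun j hj => hj, ⟨h.cube, ?_, ?_⟩, ?_⟩
  · rintro _ ⟨i, hi, k, rfl⟩
    exact (((show Commute i t from h.comm i hi).mul_left ((show Commute b t from hbt).pow_left k))).eq
  · rintro _ ⟨i, hi, k, rfl⟩ hne
    have hk : b ^ k = b ^ (k % 3) := by
      conv_lhs => rw [← Nat.div_add_mod k 3, pow_add, pow_mul, hb, one_pow, one_mul]
    have hk3 : k % 3 = 0 ∨ k % 3 = 1 ∨ k % 3 = 2 := by omega
    rw [hk] at hne ⊢
    rcases hk3 with h0 | h0 | h0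
    · rw [h0, pow_zero, mul_one] at hne ⊢
      exact h.nd i hi hne
    · rw [h0, pow_one]
      exact ⟨s, hst, key1 i hi⟩
    · rw [h0]
      exact ⟨s, hst, key2 i hi⟩
  · let f : ↥I × Fin 3 → ↥J := fun p => ⟨p.1 * b ^ (p.2 : ℕ), p.1, p.1.2, p.2, rfl⟩
    have hf : Function.Bijective f := by
      constructor
      · rintro ⟨i, k⟩ ⟨i', k'⟩ he
        have he' : (i : G) * b ^ (k : ℕ) = i' * b ^ (k' : ℕ) := congrArg Subtype.val he
        have hkk : k = k' := by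
          by_contra hne
          have aux : ∀ (i i' : ↥I) (k k' : Fin 3), (i : G) * b ^ (k : ℕ) = i' * b ^ (k' : ℕ) → (k : ℕ) < k' → False := by
            intro i i' k k' he hlt
            apply notI ((k' : ℕ) - k) (by omega) (by omega)
            have h7 : b ^ ((k' : ℕ) - k) = (i' : G)⁻¹ * i := by
              rw [eq_inv_mul_iff_mul_eq]
              have h8 : (i' : G) * b ^ (k' : ℕ) = i' * b ^ ((k' : ℕ) - k) * b ^ (k : ℕ) := by
                rw [mul_assoc, ← pow_add]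
                congr 2
                omega
              rw [h8] at he
              exact (mul_right_cancel he).symm
            rw [h7]
            exact I.mul_mem (I.inv_mem i'.2) i.2
          rcases lt_or_gt_of_ne (fun h => hne (Fin.ext h) : (k : ℕ) ≠ k') with h9 | h9
          · exact aux i i' k k' he' h9
          · exact aux i' i k' k he'.symm h9
        subst hkk
        have : (i : G) = i' := mul_right_cancel he'
        rw [Subtype.ext this]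
      · rintro ⟨_, i, hi, k, rfl⟩
        refine ⟨(⟨i, hi⟩, ⟨k % 3, Nat.mod_lt _ (by norm_num)⟩), Subtype.ext ?_⟩
        show i * b ^ (k % 3) = i * b ^ k
        conv_rhs => rw [← Nat.div_add_mod k 3, pow_add, pow_mul, hb, one_pow, one_mul]
    rw [← Nat.card_congr (Equiv.ofBijective f hf), Nat.card_prod, hn, Nat.card_eq_fintype_card, Fintype.card_fin,
      mul_comm]

theorem Iso.bot {t : G} (h : t ^ 3 = 1) : Iso t (⊥ : Subgroup G) :=
  ⟨h, fun i hi => by rw [Subgroup.mem_bot.1 hi, one_mul, mul_one], fun i hi hne => absurd (Subgroup.mem_bot.1 hi) hne⟩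

/-! ### projections -/

/-- the projection onto `ei ρ t μ` -/
noncomputable def pj (t : G) (μ : ℂ) : V →ₗ[ℂ] V := (3 : ℂ)⁻¹ • (1 + μ ^ 2 • ρ t + μ • ρ (t * t))

theorem pj_mem {t : G} {μ : ℂ} (ht : t ^ 3 = 1) (hμ : μ ^ 3 = 1) (v : V) : pj ρ t μ v ∈ ei ρ t μ := by
  rw [mem_ei]
  show ρ t ((3 : ℂ)⁻¹ • (v + μ ^ 2 • ρ t v + μ • ρ (t * t) v)) = μ • ((3 : ℂ)⁻¹ • (v + μ ^ 2 • ρ t v + μ • ρ (t * t) v))
  have h1 : ρ t (ρ t v) = ρ (t * t) v := by rw [map_mul]; rfl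
  have h2 : ρ t (ρ (t * t) v) = v := by
    have h3 : t * (t * t) = 1 := by rwa [pow_succ, pow_two, mul_assoc] at ht
    calc ρ t (ρ (t * t) v) = ρ (t * (t * t)) v := (mm ρ _ _ _).symm
      _ = v := by rw [h3, map_one]; rfl
  rw [map_smul, map_add, map_add, map_smul, map_smul, h1, h2, smul_comm]
  congr 1
  rw [smul_add, smul_add, smul_smul, smul_smul]
  have e1 : μ * μ ^ 2 = 1 := by rw [← hμ]; ring
  have e2 : μ * μ = μ ^ 2 := by ring
  rw [e1, e2, one_smul]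
  abel

theorem pj_of_mem {t : G} {μ : ℂ} (hμ : μ ^ 3 = 1) {v : V} (hv : v ∈ ei ρ t μ) : pj ρ t μ v = v := by
  rw [mem_ei] at hv
  show (3 : ℂ)⁻¹ • (v + μ ^ 2 • ρ t v + μ • ρ (t * t) v) = v
  have h1 : ρ (t * t) v = (μ * μ) • v := by
    calc ρ (t * t) v = ρ t (ρ t v) := by rw [map_mul]; rfl
      _ = _ := by rw [hv, map_smul, hv, smul_smul]
  rw [h1, hv, smul_smul, smul_smul]
  have e1 : μ ^ 2 * μ = 1 := by rw [← hμ]; ring
  have e2 : μ * (μ * μ) = 1 := by rw [← hμ]; ring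
  rw [e1, e2, one_smul]
  have e3 : v + v + v = (3 : ℂ) • v := by
    rw [show (3 : ℂ) = 1 + 1 + 1 by norm_num, add_smul, add_smul, one_smul]
  rw [e3, smul_smul, inv_mul_cancel₀ (by norm_num), one_smul]

/-- the three projections add up to `1` -/
theorem pj_sum {t : G} {ω : ℂ} (hω : 1 + ω + ω ^ 2 = 0) (v : V) :
    pj ρ t 1 v + pj ρ t ω v + pj ρ t (ω ^ 2) v = v := by
  show (3 : ℂ)⁻¹ • (v + (1 : ℂ) ^ 2 • ρ t v + (1 : ℂ) • ρ (t * t) v) + (3 : ℂ)⁻¹ • (v + ω ^ 2 • ρ t v + ω • ρ (t * t) v) +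
    (3 : ℂ)⁻¹ • (v + (ω ^ 2) ^ 2 • ρ t v + ω ^ 2 • ρ (t * t) v) = v
  have hω3 : ω ^ 3 = 1 := by linear_combination (ω - 1) * hω
  have e4 : (ω ^ 2) ^ 2 = ω := by linear_combination ω * hω3
  rw [e4, ← smul_add, ← smul_add]
  have e5 : v + (1 : ℂ) ^ 2 • ρ t v + (1 : ℂ) • ρ (t * t) v + (v + ω ^ 2 • ρ t v + ω • ρ (t * t) v) +
      (v + ω • ρ t v + ω ^ 2 • ρ (t * t) v) = (3 : ℂ) • v + (1 + ω + ω ^ 2) • ρ t v + (1 + ω + ω ^ 2) • ρ (t * t) v := by
    module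
  rw [e5, hω, zero_smul, zero_smul, add_zero, add_zero, smul_smul, inv_mul_cancel₀ (by norm_num), one_smul]

/-- `pj` commutes with everything that commutes with `t` -/
theorem pj_comm {t g : G} (h : g * t = t * g) (μ : ℂ) (v : V) : ρ g (pj ρ t μ v) = pj ρ t μ (ρ g v) := by
  show ρ g ((3 : ℂ)⁻¹ • (v + μ ^ 2 • ρ t v + μ • ρ (t * t) v)) =
    (3 : ℂ)⁻¹ • (ρ g v + μ ^ 2 • ρ t (ρ g v) + μ • ρ (t * t) (ρ g v))
  have h1 : ρ g (ρ t v) = ρ t (ρ g v) := by
    calc ρ g (ρ t v) = ρ (g * t) v := by rw [map_mul]; rfl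
      _ = ρ (t * g) v := by rw [h]
      _ = _ := by rw [map_mul]; rfl
  have h2 : ρ g (ρ (t * t) v) = ρ (t * t) (ρ g v) := by
    have h3 : g * (t * t) = (t * t) * g := by rw [← mul_assoc, h, mul_assoc, h, mul_assoc]
    calc ρ g (ρ (t * t) v) = ρ (g * (t * t)) v := (mm ρ _ _ _).symm
      _ = ρ ((t * t) * g) v := by rw [h3]
      _ = _ := by rw [map_mul]; rfl
  rw [map_smul, map_add, map_add, map_smul, map_smul, h1, h2]

section

variable [FiniteDimensional ℂ V]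

/-- `dim E_μ = tr pj` -/
theorem trace_pj {t : G} {μ : ℂ} (ht : t ^ 3 = 1) (hμ : μ ^ 3 = 1) :
    LinearMap.trace ℂ V (pj ρ t μ) = (finrank ℂ ↥(ei ρ t μ) : ℂ) := by
  have h : LinearMap.IsProj (ei ρ t μ) (pj ρ t μ) := ⟨pj_mem ρ ht hμ, fun v hv => pj_of_mem ρ hμ hv⟩
  exact h.trace

omit [FiniteDimensional ℂ V] in
/-- the trace of `ρ i * pj` vanishes -/
theorem trace_zero {t i w : G} {μ : ℂ} (ht : t ^ 3 = 1) (hμ : μ ^ 3 = 1) (hμ1 : μ ≠ 1)
    (hw : w * t = t * w) (h : w * i = t * i * w ∨ w * i = t⁻¹ * i * w) (hi : i * t = t * i) :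
    LinearMap.trace ℂ V (ρ i * pj ρ t μ) = 0 := by
  have hcW : ρ w * pj ρ t μ = pj ρ t μ * ρ w := LinearMap.ext fun v => pj_comm ρ hw μ v
  have hc : ρ i * pj ρ t μ = pj ρ t μ * ρ i := LinearMap.ext fun v => pj_comm ρ hi μ v
  have hWW : ρ w⁻¹ * ρ w = 1 := by rw [← map_mul, inv_mul_cancel, map_one]
  have h1 : LinearMap.trace ℂ V (ρ w * (ρ i * pj ρ t μ) * ρ w⁻¹) = LinearMap.trace ℂ V (ρ i * pj ρ t μ) := by
    rw [LinearMap.trace_mul_comm, ← mul_assoc, hWW, one_mul]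
  have hWW' : ρ w * ρ w⁻¹ = 1 := by rw [← map_mul, mul_inv_cancel, map_one]
  have hμ0 : μ ≠ 0 := by
    rintro rfl
    norm_num at hμ
  -- the eigenvalue
  have ht1 : ρ t * pj ρ t μ = μ • pj ρ t μ := LinearMap.ext fun v => pj_mem ρ ht hμ v
  have ht2 : ρ t⁻¹ * pj ρ t μ = μ⁻¹ • pj ρ t μ := by
    have h3 : ρ t⁻¹ * (ρ t * pj ρ t μ) = pj ρ t μ := by
      rw [← mul_assoc, ← map_mul, inv_mul_cancel, map_one, one_mul]
    rw [ht1, mul_smul_comm] at h3
    rw [← h3, smul_smul, inv_mul_cancel₀ hμ0, one_smul, h3]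
  have key : ∀ (c : ℂ) (s : G), (s = t ∨ s = t⁻¹) → ρ s * pj ρ t μ = c • pj ρ t μ → w * i = s * i * w →
      LinearMap.trace ℂ V (ρ i * pj ρ t μ) = c * LinearMap.trace ℂ V (ρ i * pj ρ t μ) := by
    intro c s hs hs1 hs2
    have h4 : ρ w * (ρ i * pj ρ t μ) * ρ w⁻¹ = c • (ρ i * pj ρ t μ) := by
      calc ρ w * (ρ i * pj ρ t μ) * ρ w⁻¹ = (ρ w * ρ i) * (pj ρ t μ * ρ w⁻¹) := by simp only [mul_assoc]
        _ = ρ (w * i) * (pj ρ t μ * ρ w⁻¹) := by rw [map_mul]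
        _ = ρ (s * i * w) * (pj ρ t μ * ρ w⁻¹) := by rw [hs2]
        _ = ρ s * ρ i * (ρ w * pj ρ t μ) * ρ w⁻¹ := by rw [map_mul, map_mul]; simp only [mul_assoc]
        _ = ρ s * (ρ i * pj ρ t μ) * (ρ w * ρ w⁻¹) := by rw [hcW]; simp only [mul_assoc]
        _ = ρ s * (pj ρ t μ * ρ i) := by rw [hWW', mul_one, hc]
        _ = (ρ s * pj ρ t μ) * ρ i := by rw [mul_assoc]
        _ = c • (pj ρ t μ * ρ i) := by rw [hs1, smul_mul_assoc]
        _ = c • (ρ i * pj ρ t μ) := by rw [hc]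
    rw [h4, map_smul, smul_eq_mul] at h1
    exact h1.symm
  rcases h with h | h
  · have h5 := key μ t (Or.inl rfl) ht1 h
    have h6 : (μ - 1) * LinearMap.trace ℂ V (ρ i * pj ρ t μ) = 0 := by linear_combination -h5
    exact (mul_eq_zero.1 h6).resolve_left (sub_ne_zero.2 hμ1)
  · have h5 := key μ⁻¹ t⁻¹ (Or.inr rfl) ht2 h
    have h7 : μ⁻¹ ≠ 1 := fun h8 => hμ1 (inv_eq_one.1 h8)
    have h6 : (μ⁻¹ - 1) * LinearMap.trace ℂ V (ρ i * pj ρ t μ) = 0 := by linear_combination -h5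
    exact (mul_eq_zero.1 h6).resolve_left (sub_ne_zero.2 h7)

/-- **`|I| dim (E ⊓ fix I) = dim E`** -/
theorem card_mul_finrank {t : G} {I : Subgroup G} (h : Iso t I) [Finite ↥I] {μ : ℂ} (hμ : μ ^ 3 = 1) (hμ1 : μ ≠ 1) :
    Nat.card ↥I * finrank ℂ ↥(ei ρ t μ ⊓ fx ρ (I : Set G)) = finrank ℂ ↥(ei ρ t μ) := by
  classical
  have := Fintype.ofFinite ↥I
  have hc0 : (Fintype.card ↥I : ℂ) ≠ 0 := Nat.cast_ne_zero.2 Fintype.card_ne_zero
  let a : V →ₗ[ℂ] V := (Fintype.card ↥I : ℂ)⁻¹ • ∑ i : ↥I, ρ i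
  have ha : ∀ v, a v = (Fintype.card ↥I : ℂ)⁻¹ • ∑ i : ↥I, ρ i v := by
    intro v
    show ((Fintype.card ↥I : ℂ)⁻¹ • ∑ i : ↥I, ρ i) v = _
    rw [LinearMap.smul_apply, LinearMap.sum_apply]
  have h1 : LinearMap.IsProj (ei ρ t μ ⊓ fx ρ (I : Set G)) (a * pj ρ t μ) := by
    constructor
    · intro v
      have h2 := pj_mem ρ h.cube hμ v
      refine ⟨?_, ?_⟩
      · show ρ t (a (pj ρ t μ v)) = μ • a (pj ρ t μ v)
        have h10 : ∀ i : ↥I, ρ t (ρ (i : G) (pj ρ t μ v)) = μ • ρ (i : G) (pj ρ t μ v) := by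
          intro i
          have h3 := h.comm i i.2
          calc ρ t (ρ (i : G) (pj ρ t μ v)) = ρ (t * i) (pj ρ t μ v) := (mm ρ _ _ _).symm
            _ = ρ (i * t) (pj ρ t μ v) := by rw [h3]
            _ = ρ (i : G) (ρ t (pj ρ t μ v)) := mm ρ _ _ _
            _ = _ := by rw [(mem_ei ρ).1 h2, map_smul]
        rw [ha, map_smul, map_sum, Finset.sum_congr rfl fun i _ => h10 i, ← Finset.smul_sum, smul_comm]
      · intro g hg
        show ρ g (a (pj ρ t μ v)) = a (pj ρ t μ v)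
        rw [ha, map_smul, map_sum]
        congr 1
        refine Fintype.sum_equiv (Equiv.mulLeft (⟨g, hg⟩ : ↥I)) _ _ fun i => ?_
        show ρ g (ρ (i : G) (pj ρ t μ v)) = ρ (g * i) (pj ρ t μ v)
        rw [map_mul]; rfl
    · rintro v ⟨h2, h3⟩
      show a (pj ρ t μ v) = v
      rw [pj_of_mem ρ hμ h2, ha]
      have h4 : ∀ i : ↥I, ρ (i : G) v = v := fun i => h3 i i.2
      rw [Finset.sum_congr rfl fun i _ => h4 i, Finset.sum_const, Finset.card_univ, ← Nat.cast_smul_eq_nsmul ℂ,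
        smul_smul, inv_mul_cancel₀ hc0, one_smul]
  have h5 := h1.trace
  have h6 : a * pj ρ t μ = (Fintype.card ↥I : ℂ)⁻¹ • ∑ i : ↥I, ρ i * pj ρ t μ := by
    show ((Fintype.card ↥I : ℂ)⁻¹ • ∑ i : ↥I, ρ i) * pj ρ t μ = _
    rw [smul_mul_assoc, Finset.sum_mul]
  have h7 : ∑ i : ↥I, LinearMap.trace ℂ V (ρ (i : G) * pj ρ t μ) = (finrank ℂ ↥(ei ρ t μ) : ℂ) := by
    rw [Finset.sum_eq_single (1 : ↥I)]
    · rw [Subgroup.coe_one, map_one, one_mul]
      exact trace_pj ρ h.cube hμ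
    · intro i _ hi
      obtain ⟨w, hw1, hw2⟩ := h.nd i i.2 fun h8 => hi (Subtype.ext h8)
      exact trace_zero ρ h.cube hμ hμ1 hw1 hw2 (h.comm i i.2)
    · intro h8
      exact absurd (Finset.mem_univ _) h8
  rw [h6, map_smul, map_sum, h7, smul_eq_mul] at h5
  have h9 : (finrank ℂ ↥(ei ρ t μ) : ℂ) = (Fintype.card ↥I : ℂ) * (finrank ℂ ↥(ei ρ t μ ⊓ fx ρ (I : Set G)) : ℂ) := by
    rw [← h5, ← mul_assoc, mul_inv_cancel₀ hc0, one_mul]
  rw [Nat.card_eq_fintype_card]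
  exact_mod_cast h9.symm

/-- **One step.** -/
theorem step {t : G} {I : Subgroup G} (ht : t ^ 3 = 1) (hc : ∀ i ∈ I, i * t = t * i) {ω : ℂ}
    (hω : 1 + ω + ω ^ 2 = 0) {F : Submodule ℂ V} (hF : F ≤ fx ρ (I : Set G)) :
    finrank ℂ ↥F ≤ finrank ℂ ↥(F ⊓ fx ρ {t}) + (finrank ℂ ↥(ei ρ t ω ⊓ fx ρ (I : Set G)) +
      finrank ℂ ↥(ei ρ t (ω ^ 2) ⊓ fx ρ (I : Set G))) := by
  have hω3 : ω ^ 3 = 1 := by linear_combination (ω - 1) * hω
  have hω6 : (ω ^ 2) ^ 3 = 1 := by linear_combination (ω ^ 3 + 1) * hω3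
  have hm : ∀ (μ : ℂ), μ ^ 3 = 1 → ∀ v ∈ F, pj ρ t μ v ∈ ei ρ t μ ⊓ fx ρ (I : Set G) := by
    intro μ hμ v hv
    refine ⟨pj_mem ρ ht hμ v, fun g hg => ?_⟩
    rw [pj_comm ρ (hc g hg), hF hv g hg]
  let f1 : ↥F →ₗ[ℂ] ↥(ei ρ t ω ⊓ fx ρ (I : Set G)) :=
    LinearMap.codRestrict _ ((pj ρ t ω).comp F.subtype) fun v => hm ω hω3 v v.2
  let f2 : ↥F →ₗ[ℂ] ↥(ei ρ t (ω ^ 2) ⊓ fx ρ (I : Set G)) :=
    LinearMap.codRestrict _ ((pj ρ t (ω ^ 2)).comp F.subtype) fun v => hm _ hω6 v v.2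
  let f := f1.prod f2
  have h1 := f.finrank_range_add_finrank_ker
  have h2 : finrank ℂ ↥(LinearMap.range f) ≤ finrank ℂ ↥(ei ρ t ω ⊓ fx ρ (I : Set G)) +
      finrank ℂ ↥(ei ρ t (ω ^ 2) ⊓ fx ρ (I : Set G)) := by
    rw [← Module.finrank_prod]
    exact Submodule.finrank_le _
  have h3 : finrank ℂ ↥(LinearMap.ker f) ≤ finrank ℂ ↥(F ⊓ fx ρ {t}) := by
    rw [← Submodule.finrank_map_subtype_eq F (LinearMap.ker f)]
    apply Submodule.finrank_mono
    rintro _ ⟨v, hv, rfl⟩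
    refine ⟨v.2, ?_⟩
    have hv' : f v = 0 := hv
    have h4 : pj ρ t ω (v : V) = 0 := congrArg Subtype.val (congrArg Prod.fst hv')
    have h5 : pj ρ t (ω ^ 2) (v : V) = 0 := congrArg Subtype.val (congrArg Prod.snd hv')
    have h6 := pj_sum ρ (t := t) hω (v : V)
    rw [h4, h5, add_zero, add_zero] at h6
    rintro g rfl
    have h7 := pj_mem ρ ht (one_pow 3) (v : V)
    rw [mem_ei, h6, one_smul] at h7
    exact h7
  omega

end

/-! ### conjugation -/

theorem ei_conj (g t : G) (μ : ℂ) : finrank ℂ ↥(ei ρ (g * t * g⁻¹) μ) = finrank ℂ ↥(ei ρ t μ) := by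
  have hgg : ∀ v, ρ g⁻¹ (ρ g v) = v := fun v => by
    calc ρ g⁻¹ (ρ g v) = ρ (g⁻¹ * g) v := by rw [map_mul]; rfl
      _ = v := by rw [inv_mul_cancel, map_one]; rfl
  have hgg' : ∀ v, ρ g (ρ g⁻¹ v) = v := fun v => by
    calc ρ g (ρ g⁻¹ v) = ρ (g * g⁻¹) v := by rw [map_mul]; rfl
      _ = v := by rw [mul_inv_cancel, map_one]; rfl
  let e : V ≃ₗ[ℂ] V := LinearEquiv.ofLinearMap (ρ g) (ρ g⁻¹) (LinearMap.ext hgg') (LinearMap.ext hgg)
  have h : (ei ρ t μ).map (e : V →ₗ[ℂ] V) = ei ρ (g * t * g⁻¹) μ := by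
    ext v
    constructor
    · rintro ⟨x, hx, rfl⟩
      have hx' : ρ t x = μ • x := hx
      show ρ (g * t * g⁻¹) (ρ g x) = μ • ρ g x
      calc ρ (g * t * g⁻¹) (ρ g x) = ρ g (ρ t (ρ g⁻¹ (ρ g x))) := by rw [map_mul, map_mul]; rfl
        _ = _ := by rw [hgg, hx', map_smul]
    · intro hv
      have hv' : ρ (g * t * g⁻¹) v = μ • v := hv
      refine ⟨ρ g⁻¹ v, ?_, hgg' v⟩
      show ρ t (ρ g⁻¹ v) = μ • ρ g⁻¹ v
      rw [← map_smul, ← hv']
      calc ρ t (ρ g⁻¹ v) = ρ g⁻¹ (ρ g (ρ t (ρ g⁻¹ v))) := (hgg _).symm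
        _ = _ := by rw [map_mul, map_mul]; rfl
  rw [← h]
  exact LinearEquiv.finrank_map_eq e (ei ρ t μ)

theorem fx_mono {S T : Set G} (h : S ⊆ T) : fx ρ T ≤ fx ρ S := fun _ hv g hg => hv g (h hg)

/-- the fixed space of a set is the fixed space of its closure -/
theorem fx_closure (S : Set G) : fx ρ (Subgroup.closure S : Set G) = fx ρ S := by
  apply le_antisymm (fx_mono ρ Subgroup.subset_closure)
  intro v hv g hg
  induction hg using Subgroup.closure_induction with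
  | mem x hx => exact hv x hx
  | one => rw [map_one]; rfl
  | mul x y _ _ hx hy =>
    calc ρ (x * y) v = ρ x (ρ y v) := by rw [map_mul]; rfl
      _ = v := by rw [hy, hx]
  | inv x _ hx =>
    calc ρ x⁻¹ v = ρ x⁻¹ (ρ x v) := by rw [hx]
      _ = ρ (x⁻¹ * x) v := by rw [map_mul]; rfl
      _ = v := by rw [inv_mul_cancel, map_one]; rfl

end Cfsg.Agent.H186.F43
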