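import Cfsg.Agent.H700.F43.Kap
import Cfsg.Agent.H186.F43.Fix

/-!
# `F₄(3)`: generation by simple root elements, conjugacy of long root elements, two isotropic families (helper186)
-/

set_option autoImplicit false

namespace Cfsg.Agent.H186.F43

open Cfsg.Lie Cfsg.Agent.ChevalleyStructure Cfsg.Agent.H700.F43 Cfsg.Agent.KFacts.RgdChevCoord
  Cfsg.Agent.ChevalleyStructure.CoxeterGeomTypes

/-- the word of the reflection -/
def nw (a b : ℕ) : List (ℕ × Bool) := [(a, true), (b, false), (a, true)]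

/-- its inverse -/
def nwi (a b : ℕ) : List (ℕ × Bool) := [(a, false), (b, true), (a, false)]

/-- `n_a x_{r'} n_a⁻¹ = x_r^{±1}` -/
noncomputable def okT (r a b r' : ℕ) : Bool :=
  chkE (nw a b ++ [(r', true)] ++ nwi a b) [(r, true)] || chkE (nw a b ++ [(r', true)] ++ nwi a b) [(r, false)]

def ng4 : ℕ → ℕ := fun a => if a = 33 then 14 else if a = 27 then 20 else if a = 25 then 22 else 23

def tbl : List (ℕ × ℕ × ℕ) := [(34, 27, 33), (28, 25, 27), (30, 27, 25), (26, 24, 25), (13, 27, 14), (19, 25, 20),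
  (17, 27, 22), (21, 24, 22), (35, 25, 34), (29, 24, 28), (41, 33, 30), (31, 24, 30), (12, 25, 13), (18, 24, 19),
  (6, 33, 17), (16, 24, 17), (37, 27, 35), (36, 24, 35), (42, 24, 41), (32, 25, 31), (10, 27, 12), (11, 24, 12),
  (5, 24, 6), (15, 25, 16), (38, 24, 37), (43, 25, 42), (9, 24, 10), (4, 25, 5), (39, 25, 38), (45, 27, 43),
  (8, 25, 9), (2, 27, 4), (40, 27, 39), (46, 25, 45), (7, 27, 8), (1, 25, 2), (44, 33, 40), (47, 24, 46), (3, 33, 7),
  (0, 24, 1)]

theorem tbl_ok : ∀ e ∈ tbl, okT e.1 e.2.1 (ng4 e.2.1) e.2.2 = true := by decide +kernel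


theorem inv_of_cube {G : Type*} [Group G] {x : G} (h : x * (x * x) = 1) : x * x = x⁻¹ :=
  (inv_eq_of_mul_eq_one_right h).symm

theorem wd_inv1 (r : ℕ) (hr : r < 48) : xr (r, false) = (xp r)⁻¹ :=
  (xr_false hr).trans (inv_of_cube (G := Gm) (xp_cube hr))

/-- the reflection element -/
noncomputable def nn (a b : ℕ) : Gm := xp a * (xp b)⁻¹ * xp a

theorem wd_nw {a b : ℕ} (hb : b < 48) : wd (nw a b) = nn a b := by
  rw [nw, wd_cons, wd_cons, wd_single, wd_inv1 b hb, nn, mul_assoc]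

theorem wd_nwi {a b : ℕ} (ha : a < 48) : wd (nwi a b) = (nn a b)⁻¹ := by
  rw [nwi, wd_cons, wd_cons, wd_single, wd_inv1 a ha, nn]
  group

theorem conj_of_okT {r a b r' : ℕ} (hr : r < 48) (ha : a < 48) (hb : b < 48) (h : okT r a b r' = true) :
    nn a b * xp r' * (nn a b)⁻¹ = xp r ∨ nn a b * xp r' * (nn a b)⁻¹ = (xp r)⁻¹ := by
  have e : wd (nw a b ++ [(r', true)] ++ nwi a b) = nn a b * xp r' * (nn a b)⁻¹ := by
    rw [wd_append, wd_append, wd_nw hb, wd_nwi ha, wd_single]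
  rw [okT, Bool.or_eq_true] at h
  rcases h with h | h
  · left
    have := word_eq h
    rw [e, wd_single] at this
    exact this
  · right
    have := word_eq h
    rw [e, wd_single, wd_inv1 r hr] at this
    exact this

/-- the simple root elements and their negatives -/
def S8 : List ℕ := [33, 27, 25, 24, 14, 20, 22, 23]

def ckl : List (ℕ × ℕ × ℕ) → List ℕ → Bool
  | [], _ => true
  | e :: L, k => decide (e.2.1 ∈ [33, 27, 25, 24]) && decide (e.2.2 ∈ k) && decide (e.1 < 48) && ckl L (e.1 :: k)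

theorem ng4_S8 : ∀ a ∈ [33, 27, 25, 24], ng4 a ∈ S8 ∧ a ∈ S8 := by decide

theorem S8_lt : ∀ a ∈ S8, a < 48 := by decide

theorem chain {H : Subgroup Gm} (h8 : ∀ r ∈ S8, xp r ∈ H) : ∀ (L : List (ℕ × ℕ × ℕ)) (k : List ℕ),
    (∀ e ∈ L, okT e.1 e.2.1 (ng4 e.2.1) e.2.2 = true) → (∀ r ∈ k, xp r ∈ H) → ckl L k = true →
    ∀ e ∈ L, xp e.1 ∈ H := by
  intro L
  induction L with
  | nil => intro k _ _ _ e he; exact absurd he List.not_mem_nil
  | cons e L ih =>
    intro k hL hk hc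
    rw [ckl, Bool.and_eq_true, Bool.and_eq_true, Bool.and_eq_true, decide_eq_true_eq, decide_eq_true_eq,
      decide_eq_true_eq] at hc
    obtain ⟨⟨⟨h1, h2⟩, h3⟩, h4⟩ := hc
    have ha := ng4_S8 _ h1
    have hn : nn e.2.1 (ng4 e.2.1) ∈ H :=
      H.mul_mem (H.mul_mem (h8 _ ha.2) (H.inv_mem (h8 _ ha.1))) (h8 _ ha.2)
    have he : xp e.1 ∈ H := by
      have h5 := H.mul_mem (H.mul_mem hn (hk _ h2)) (H.inv_mem hn)
      rcases conj_of_okT h3 (S8_lt _ ha.2) (S8_lt _ ha.1) (hL e List.mem_cons_self) with h6 | h6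
      · rwa [h6] at h5
      · rw [h6] at h5
        rw [← inv_inv (xp e.1)]
        exact H.inv_mem h5
    intro e' he'
    rcases List.mem_cons.1 he' with rfl | he'
    · exact he
    · refine ih (e.1 :: k) (fun x hx => hL x (List.mem_cons_of_mem _ hx)) ?_ h4 e' he'
      intro r hr
      rcases List.mem_cons.1 hr with rfl | hr
      · exact he
      · exact hk r hr

theorem tbl_all : ∀ r < 48, r ∈ S8 ∨ ∃ e ∈ tbl, e.1 = r := by decide +kernel

/-- **The simple root elements and their negatives generate.** -/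
theorem gen8 {H : Subgroup Gm} (h8 : ∀ r ∈ S8, xp r ∈ H) : H = ⊤ := by
  have hall : ∀ r < 48, xp r ∈ H := by
    intro r hr
    rcases tbl_all r hr with h | ⟨e, he, rfl⟩
    · exact h8 r h
    · exact chain h8 tbl S8 tbl_ok h8 (by decide +kernel) e he
  rw [eq_top_iff]
  rintro ⟨g, hg⟩ -
  have h1 : chevF4.group (ZMod 3) ≤ H.map (chevF4.group (ZMod 3)).subtype := by
    rw [Elts.group_le_iff hF.inList]
    intro r hr t
    have hr' : r < 48 := hr
    have hcase : t = 0 ∨ t = 1 ∨ t = -1 := by revert t; decide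
    rcases hcase with rfl | rfl | rfl
    · rw [Elts.xG_zero]
      exact Subgroup.one_mem _
    · exact ⟨xp r, hall r hr', coe_xc hF hr _⟩
    · exact ⟨xr (r, false), by rw [wd_inv1 r hr']; exact H.inv_mem (hall r hr'), coe_xc hF hr _⟩
  obtain ⟨g', hg', e⟩ := h1 hg
  have : g' = ⟨g, hg⟩ := Subtype.ext e
  rw [← this]
  exact hg'

/-! ### conjugacy -/

/-- conjugate up to inversion -/
def Cj {G : Type*} [Group G] (a b : G) : Prop := ∃ g : G, g * a * g⁻¹ = b ∨ g * a * g⁻¹ = b⁻¹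

theorem Cj.trans {G : Type*} [Group G] {a b c : G} (h1 : Cj a b) (h2 : Cj b c) : Cj a c := by
  obtain ⟨g, hg⟩ := h1
  obtain ⟨k, hk⟩ := h2
  refine ⟨k * g, ?_⟩
  have e : k * g * a * (k * g)⁻¹ = k * (g * a * g⁻¹) * k⁻¹ := by group
  have e' : k * b⁻¹ * k⁻¹ = (k * b * k⁻¹)⁻¹ := by group
  rw [e]
  rcases hg with hg | hg <;> rcases hk with hk | hk <;> rw [hg]
  · exact Or.inl hk
  · exact Or.inr hk
  · right; rw [e', hk]
  · left; rw [e', hk, inv_inv]

theorem cj_of {r a b r' : ℕ} (hr : r < 48) (ha : a < 48) (hb : b < 48) (h : okT r a b r' = true) :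
    Cj (xp r') (xp r) := ⟨nn a b, conj_of_okT hr ha hb h⟩

theorem path_ok : okT 30 27 20 25 = true ∧ okT 41 33 14 30 = true ∧ okT 42 24 23 41 = true ∧ okT 43 25 22 42 = true ∧
    okT 45 27 20 43 = true ∧ okT 46 25 22 45 = true ∧ okT 47 24 23 46 = true ∧ okT 24 24 23 23 = true ∧
    okT 26 25 22 24 = true ∧ okT 31 27 20 26 = true ∧ okT 42 33 14 31 = true := by decide +kernel

theorem cj_42 : Cj (xp 42) (xp 47) := by
  obtain ⟨-, -, -, h4, h5, h6, h7, -⟩ := path_ok
  exact (((cj_of (by norm_num) (by norm_num) (by norm_num) h4).trans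
    (cj_of (by norm_num) (by norm_num) (by norm_num) h5)).trans
    (cj_of (by norm_num) (by norm_num) (by norm_num) h6)).trans (cj_of (by norm_num) (by norm_num) (by norm_num) h7)

theorem cj_25 : Cj (xp 25) (xp 47) := by
  obtain ⟨h1, h2, h3, -⟩ := path_ok
  exact (((cj_of (by norm_num) (by norm_num) (by norm_num) h1).trans
    (cj_of (by norm_num) (by norm_num) (by norm_num) h2)).trans
    (cj_of (by norm_num) (by norm_num) (by norm_num) h3)).trans cj_42

theorem cj_23 : Cj (xp 23) (xp 47) := by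
  obtain ⟨-, -, -, -, -, -, -, h1, h2, h3, h4⟩ := path_ok
  exact ((((cj_of (by norm_num) (by norm_num) (by norm_num) h1).trans
    (cj_of (by norm_num) (by norm_num) (by norm_num) h2)).trans
    (cj_of (by norm_num) (by norm_num) (by norm_num) h3)).trans
    (cj_of (by norm_num) (by norm_num) (by norm_num) h4)).trans cj_42

/-! ### isotropic families -/

/-- two root elements commute -/
noncomputable def cm (a b : ℕ) : Bool := chkE [(a, true), (b, true)] [(b, true), (a, true)]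

theorem cm_eq {a b : ℕ} (h : cm a b = true) : xp a * xp b = xp b * xp a := by
  have := word_eq h
  rwa [wd_cons, wd_single, wd_cons, wd_single] at this

noncomputable def okS (t b s : ℕ) : Bool :=
  chkE [(s, true), (b, true)] [(t, true), (b, true), (s, true)] ||
    chkE [(s, true), (b, true)] [(t, false), (b, true), (s, true)]

theorem okS_eq {t b s : ℕ} (ht : t < 48) (h : okS t b s = true) :
    xp s * xp b = xp t * xp b * xp s ∨ xp s * xp b = (xp t)⁻¹ * xp b * xp s := by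
  rw [okS, Bool.or_eq_true] at h
  rcases h with h | h
  · left
    have := word_eq h
    rwa [wd_cons, wd_single, wd_cons, wd_cons, wd_single, ← mul_assoc] at this
  · right
    have := word_eq h
    rwa [wd_cons, wd_single, wd_cons, wd_cons, wd_single, ← mul_assoc, wd_inv1 t ht] at this

noncomputable def okI (t : ℕ) : List (ℕ × ℕ) → List ℕ → Bool
  | [], _ => true
  | e :: L, k => cm e.1 t && cm e.2 t && (k.all fun b => cm b e.1 && cm b e.2) && okS t e.1 e.2 &&
      decide (e.1 < 48 ∧ e.2 < 48) && okI t L (e.1 :: k)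

theorem xp_pow3 {r : ℕ} (hr : r < 48) : xp r ^ 3 = 1 := by
  have h := xp_cube hr
  have h2 : ∀ {G : Type} [Group G] (x : G), x * (x * x) = 1 → x ^ 3 = 1 := by
    intro G _ x h
    rw [pow_succ, pow_two, mul_assoc, h]
  exact h2 (G := Gm) (xp r) h

theorem comm_aux {G : Type*} [Group G] {i b x : G} (h1 : i * x = x * i) (h2 : b * x = x * b) (m : ℕ) :
    i * b ^ m * x = x * (i * b ^ m) :=
  ((show Commute i x from h1).mul_left ((show Commute b x from h2).pow_left m)).eq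

/-- the relations of an isotropic family -/
def OkI {G : Type*} [Group G] (t : G) (X : ℕ → G) : List (ℕ × ℕ) → List ℕ → Prop
  | [], _ => True
  | e :: L, k => X e.1 * t = t * X e.1 ∧ X e.2 * t = t * X e.2 ∧
      (∀ b ∈ k, X b * X e.1 = X e.1 * X b ∧ X b * X e.2 = X e.2 * X b) ∧
      (X e.2 * X e.1 = t * X e.1 * X e.2 ∨ X e.2 * X e.1 = t⁻¹ * X e.1 * X e.2) ∧ X e.1 ^ 3 = 1 ∧ OkI t X L (e.1 :: k)

theorem build {G : Type*} [Group G] {t : G} {X : ℕ → G} (ht1 : t ≠ 1) : ∀ (L : List (ℕ × ℕ)) (k : List ℕ)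
    (I : Subgroup G) (n : ℕ), Iso t I → Nat.card ↥I = n →
    (∀ x : G, (∀ b ∈ k, X b * x = x * X b) → ∀ i ∈ I, i * x = x * i) → OkI t X L k →
    ∃ J : Subgroup G, Iso t J ∧ Nat.card ↥J = 3 ^ L.length * n ∧
      ∀ K : Subgroup G, I ≤ K → (∀ e ∈ L, X e.1 ∈ K) → J ≤ K := by
  intro L
  induction L with
  | nil =>
    intro k I n hI hn _ _
    exact ⟨I, hI, by rw [hn, List.length_nil, pow_zero, one_mul], fun K hK _ => hK⟩
  | cons e L ih =>
    intro k I n hI hn hk hc
    obtain ⟨h1, h2, h3, h4, h5, h7⟩ := hc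
    obtain ⟨J, hIJ, hbJ, hJ, hJ1, hJ2⟩ := Iso.sup (b := X e.1) (s := X e.2) hI h5 ht1 h1 h2
      (hk _ fun b hb => (h3 b hb).1) (hk _ fun b hb => (h3 b hb).2) h4 hn
    obtain ⟨J', g1, g2, g3⟩ := ih (e.1 :: k) J (3 * n) hJ1 hJ2 (by
      intro x hx j hj
      obtain ⟨i, hi, m, rfl⟩ := hJ j hj
      exact comm_aux (hk x (fun b hb => hx b (List.mem_cons_of_mem _ hb)) i hi) (hx _ List.mem_cons_self) m) h7
    refine ⟨J', g1, ?_, ?_⟩
    · rw [g2, List.length_cons, pow_succ]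
      ring
    · intro K hK hL
      refine g3 K ?_ fun e' he' => hL e' (List.mem_cons_of_mem _ he')
      intro j hj
      obtain ⟨i, hi, m, rfl⟩ := hJ j hj
      exact K.mul_mem (hK hi) (K.pow_mem (hL e List.mem_cons_self) m)

theorem okI_sound {t : ℕ} (ht : t < 48) : ∀ (L : List (ℕ × ℕ)) (k : List ℕ), okI t L k = true → OkI (xp t) xp L k := by
  intro L
  induction L with
  | nil => intro k _; trivial
  | cons e L ih =>
    intro k hc
    rw [okI] at hc
    simp only [Bool.and_eq_true, decide_eq_true_eq, List.all_eq_true] at hc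
    obtain ⟨⟨⟨⟨⟨h1, h2⟩, h3⟩, h4⟩, h5, h6⟩, h7⟩ := hc
    exact ⟨cm_eq h1, cm_eq h2, fun b hb => ⟨cm_eq (h3 b hb).1, cm_eq (h3 b hb).2⟩, okS_eq ht h4, xp_pow3 h5, ih _ h7⟩

def L5 : List (ℕ × ℕ) := [(26, 23), (32, 16), (39, 9), (43, 5), (46, 2)]

def L7 : List (ℕ × ℕ) := [(25, 21), (28, 18), (30, 16), (35, 11), (37, 9), (41, 5), (46, 0)]

theorem L5_ok : okI 25 L5 [] = true := by decide +kernel

theorem L7_ok : okI 23 L7 [] = true := by decide +kernel

theorem xp_ne_one {r : ℕ} (hr : r < 48) : xp r ≠ 1 := by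
  intro h
  have h1 : xc hF (Cfsg.Agent.Nodes.RGDChev.vec chevF4 4 r) (1 : ZMod 3) = 1 := h
  have h2 := congrArg (fun g : Gm => (g : GL chevF4.Idx (ZMod 3))) h1
  have h3 : Elts.xG hF.inList r (1 : ZMod 3) = 1 := (coe_xc hF hr (1 : ZMod 3)).symm.trans h2
  rw [Elts.xG_eq_one_iff hF.inList hr] at h3
  exact one_ne_zero h3

/-- **The isotropic subgroup of order `3⁵`.** -/
theorem exists_I5 : ∃ J : Subgroup Gm, Iso (xp 25) J ∧ Nat.card ↥J = 3 ^ 5 ∧ J ≤ QQ := by
  obtain ⟨J, h1, h2, h3⟩ := build (t := xp 25) (X := xp) (xp_ne_one (by norm_num)) L5 [] ⊥ 1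
    (Iso.bot (xp_pow3 (by norm_num))) (Nat.card_eq_one_iff_unique.2 ⟨inferInstance, inferInstance⟩)
    (fun x _ i hi => by rw [Subgroup.mem_bot.1 hi, one_mul, mul_one]) (okI_sound (by norm_num) _ _ L5_ok)
  refine ⟨J, h1, by rw [h2]; rfl, h3 QQ bot_le ?_⟩
  intro e he
  refine xp_mem ?_
  revert e
  decide

/-- **The isotropic subgroup of order `3⁷`.** -/
theorem exists_I7 : ∃ J : Subgroup Gm, Iso (xp 23) J ∧ Nat.card ↥J = 3 ^ 7 ∧
    ∀ K : Subgroup Gm, (∀ e ∈ L7, xp e.1 ∈ K) → J ≤ K := by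
  obtain ⟨J, h1, h2, h3⟩ := build (t := xp 23) (X := xp) (xp_ne_one (by norm_num)) L7 [] ⊥ 1
    (Iso.bot (xp_pow3 (by norm_num))) (Nat.card_eq_one_iff_unique.2 ⟨inferInstance, inferInstance⟩)
    (fun x _ i hi => by rw [Subgroup.mem_bot.1 hi, one_mul, mul_one]) (okI_sound (by norm_num) _ _ L7_ok)
  exact ⟨J, h1, by rw [h2]; rfl, fun K hK => h3 K bot_le hK⟩

end Cfsg.Agent.H186.F43
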