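import Cfsg.Agent.H700.F43.MdlI
import Cfsg.Agent.H150.F43.Swap
import Cfsg.Agent.H186.F43.Gen

/-!
# `F₄(3)`: the fixed space of `Q = 3^{1+14}` (S2464, box (A); helper186)

* `boxA_of` : `2187 · dim V^Q ≤ 55 · (dim V - dim V^Z)` for a representation without fixed vectors
  (from: `Sp₆(3)` is generated by six transvections).
-/

set_option autoImplicit false

namespace Cfsg.Agent.H186.F43

open Cfsg.Lie Cfsg.Agent.H700.F43
open Cfsg.Agent.ClassicalGeometry.SympBasic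
open Module

universe v

section Abs

variable {G : Type*} [Group G] {V : Type v} [AddCommGroup V] [Module ℂ V] (ρ : Representation ℂ G V)

/-- the dimension of `[V, t]` -/
noncomputable def nn3 (t : G) (ω : ℂ) : ℕ := finrank ℂ ↥(ei ρ t ω) + finrank ℂ ↥(ei ρ t (ω ^ 2))

theorem ei_inv {t : G} {μ ν : ℂ} (h : μ * ν = 1) : ei ρ t⁻¹ μ = ei ρ t ν := by
  have h1 : ∀ v, ρ t⁻¹ (ρ t v) = v := fun v => by rw [← mm, inv_mul_cancel, map_one]; rfl
  have h2 : ∀ v, ρ t (ρ t⁻¹ v) = v := fun v => by rw [← mm, mul_inv_cancel, map_one]; rfl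
  have h3 : ν * μ = 1 := by rw [mul_comm, h]
  ext v
  rw [mem_ei, mem_ei]
  constructor
  · intro hv
    calc ρ t v = ρ t ((ν * μ) • v) := by rw [h3, one_smul]
      _ = ν • ρ t (μ • v) := by rw [mul_smul, map_smul]
      _ = ν • v := by rw [← hv, h2]
  · intro hv
    calc ρ t⁻¹ v = ρ t⁻¹ ((μ * ν) • v) := by rw [h, one_smul]
      _ = μ • ρ t⁻¹ (ν • v) := by rw [mul_smul, map_smul]
      _ = μ • v := by rw [← hv, h1]

theorem nn3_inv {t : G} {ω : ℂ} (hω : 1 + ω + ω ^ 2 = 0) : nn3 ρ t⁻¹ ω = nn3 ρ t ω := by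
  have hω3 : ω ^ 3 = 1 := by linear_combination (ω - 1) * hω
  rw [nn3, nn3, ei_inv ρ (ν := ω ^ 2) (by rw [← hω3]; ring), ei_inv ρ (ν := ω) (by rw [← hω3]; ring), add_comm]

theorem nn3_cj {a b : G} (h : Cj a b) {ω : ℂ} (hω : 1 + ω + ω ^ 2 = 0) : nn3 ρ a ω = nn3 ρ b ω := by
  obtain ⟨g, h | h⟩ := h
  · rw [← h, nn3, nn3, ei_conj, ei_conj]
  · rw [← nn3_inv ρ hω (t := b), ← h, nn3, nn3, ei_conj, ei_conj]

variable [FiniteDimensional ℂ V]

theorem nn3_add {t : G} (ht : t ^ 3 = 1) {ω : ℂ} (hω : 1 + ω + ω ^ 2 = 0) :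
    nn3 ρ t ω + finrank ℂ ↥(fx ρ {t}) = finrank ℂ V := by
  have hω3 : ω ^ 3 = 1 := by linear_combination (ω - 1) * hω
  have hω6 : (ω ^ 2) ^ 3 = 1 := by linear_combination (ω ^ 3 + 1) * hω3
  have h1 : ei ρ t 1 = fx ρ {t} := by
    ext v
    rw [mem_ei, one_smul]
    constructor
    · rintro h g rfl
      exact h
    · intro h
      exact h t rfl
  have h2 := trace_pj ρ ht (one_pow 3)
  have h3 := trace_pj ρ ht hω3
  have h4 := trace_pj ρ ht hω6
  have h5 : pj ρ t 1 + pj ρ t ω + pj ρ t (ω ^ 2) = 1 := LinearMap.ext fun v => pj_sum ρ hω v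
  have h6 := congrArg (LinearMap.trace ℂ V) h5
  rw [map_add, map_add, h2, h3, h4, LinearMap.trace_one, h1] at h6
  have h7 : finrank ℂ ↥(fx ρ {t}) + finrank ℂ ↥(ei ρ t ω) + finrank ℂ ↥(ei ρ t (ω ^ 2)) = finrank ℂ V := by
    exact_mod_cast h6
  rw [nn3]
  omega

/-- one step with numbers -/
theorem step_num {t : G} {I : Subgroup G} (h : Iso t I) {c : ℕ} (hc : Nat.card ↥I = c) (hc0 : c ≠ 0) {ω : ℂ}
    (hω : 1 + ω + ω ^ 2 = 0) (hω1 : ω ≠ 1) {F : Submodule ℂ V} (hF : F ≤ fx ρ (I : Set G)) :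
    c * finrank ℂ ↥F ≤ c * finrank ℂ ↥(F ⊓ fx ρ {t}) + nn3 ρ t ω := by
  have : Finite ↥I := Nat.finite_of_card_ne_zero (by rw [hc]; exact hc0)
  have hω3 : ω ^ 3 = 1 := by linear_combination (ω - 1) * hω
  have hω6 : (ω ^ 2) ^ 3 = 1 := by linear_combination (ω ^ 3 + 1) * hω3
  have hω2 : ω ^ 2 ≠ 1 := by
    intro h0
    apply hω1
    calc ω = ω ^ 3 := by rw [pow_succ, h0, one_mul]
      _ = 1 := hω3
  have h1 := step ρ h.cube h.comm hω hF
  have h2 := card_mul_finrank ρ h hω3 hω1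
  have h3 := card_mul_finrank ρ h hω6 hω2
  rw [hc] at h2 h3
  calc c * finrank ℂ ↥F ≤ c * (finrank ℂ ↥(F ⊓ fx ρ {t}) + (finrank ℂ ↥(ei ρ t ω ⊓ fx ρ (I : Set G)) +
      finrank ℂ ↥(ei ρ t (ω ^ 2) ⊓ fx ρ (I : Set G)))) := Nat.mul_le_mul_left _ h1
    _ = c * finrank ℂ ↥(F ⊓ fx ρ {t}) + (c * finrank ℂ ↥(ei ρ t ω ⊓ fx ρ (I : Set G)) +
        c * finrank ℂ ↥(ei ρ t (ω ^ 2) ⊓ fx ρ (I : Set G))) := by ring
    _ = _ := by rw [h2, h3, nn3]

/-- several steps -/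
theorem steps {Q : Subgroup G} {c N : ℕ} (hc0 : c ≠ 0) {ω : ℂ} (hω : 1 + ω + ω ^ 2 = 0) (hω1 : ω ≠ 1) :
    ∀ (T : List G), (∀ t ∈ T, ∃ I : Subgroup G, Iso t I ∧ Nat.card ↥I = c ∧ I ≤ Q ∧ nn3 ρ t ω = N) →
    ∀ F : Submodule ℂ V, F ≤ fx ρ (Q : Set G) →
      c * finrank ℂ ↥F ≤ c * finrank ℂ ↥(F ⊓ fx ρ {t | t ∈ T}) + T.length * N := by
  intro T
  induction T with
  | nil =>
    intro _ F _
    have h : F ⊓ fx ρ {t | t ∈ ([] : List G)} = F := inf_eq_left.2 fun v _ g hg => absurd hg List.not_mem_nil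
    rw [h, List.length_nil, zero_mul, add_zero]
  | cons t T ih =>
    intro hT F hF
    obtain ⟨I, h1, h2, h3, h4⟩ := hT t List.mem_cons_self
    have h5 := step_num ρ h1 h2 hc0 hω hω1 (hF.trans (fx_mono ρ h3))
    have h6 := ih (fun x hx => hT x (List.mem_cons_of_mem _ hx)) (F ⊓ fx ρ {t}) (inf_le_left.trans hF)
    have h7 : F ⊓ fx ρ {t} ⊓ fx ρ {x | x ∈ T} = F ⊓ fx ρ {x | x ∈ t :: T} := by
      ext v
      constructor
      · rintro ⟨⟨g1, g2⟩, g3⟩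
        refine ⟨g1, fun g hg => ?_⟩
        rcases List.mem_cons.1 hg with rfl | hg
        · exact g2 _ rfl
        · exact g3 g hg
      · rintro ⟨g1, g2⟩
        exact ⟨⟨g1, fun g hg => g2 g (by rw [Set.mem_singleton_iff.1 hg]; exact List.mem_cons_self)⟩,
          fun g hg => g2 g (List.mem_cons_of_mem _ hg)⟩
    rw [h7] at h6
    rw [h4] at h5
    rw [List.length_cons, Nat.succ_mul]
    omega

end Abs

theorem exists_omega : ∃ ω : ℂ, 1 + ω + ω ^ 2 = 0 ∧ ω ≠ 1 := by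
  obtain ⟨ω, hω⟩ := IsAlgClosed.exists_pow_nat_eq (k := ℂ) (-3) (n := 2) (by norm_num)
  refine ⟨(-1 + ω) / 2, ?_, ?_⟩
  · linear_combination (1 / 4) * hω
  · intro h
    have h1 : ω = 3 := by linear_combination 2 * h
    rw [h1] at hω
    norm_num at hω

/-! ### the group -/

theorem cm47 : ∀ e ∈ L7, cm e.1 47 = true := by decide +kernel

theorem L7_PP : ∀ e ∈ L7, xp e.1 ∈ PP := fun e he => H701.F43.CzP.mem_PP_iff.2 (cm_eq (cm47 e he))

theorem conj_gen {G : Type*} [Group G] {P Q : Subgroup G} {K : Subgroup ↥P} (hK : K.Normal)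
    (hm : ∀ x : ↥P, x ∈ K ↔ (x : G) ∈ Q) (hQP : Q ≤ P) {g : G} (hg : g ∈ P) {q : G} (hq : q ∈ Q) :
    g * q * g⁻¹ ∈ Q := (hm _).1 (hK.conj_mem ⟨q, hQP hq⟩ ((hm _).2 hq) ⟨g, hg⟩)

theorem exists_gen {G H : Type*} [Group G] [Group H] {P : Subgroup G} (f : ↥P →* H) {x : G} (hx : x ∈ P) (g : ↥P) :
    ∃ t : ↥P, (t : G) = (g : G) * x * (g : G)⁻¹ ∧ f t = f g * f ⟨x, hx⟩ * (f g)⁻¹ :=
  ⟨g * ⟨x, hx⟩ * g⁻¹, rfl, by rw [map_mul, map_mul, map_inv]⟩

theorem conj_QQ {g : Gm} (hg : g ∈ PP) {q : Gm} (hq : q ∈ QQ) : g * q * g⁻¹ ∈ QQ :=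
  conj_gen (G := Gm) (K := ff.ker) inferInstance (fun _ => ker_mem) QQ_le hg hq

theorem conj_tv (g : Sp) (v : V6) (c : F3) : g * transv v c * g⁻¹ = transv (g.1.mulVec v) c := by
  rw [mul_inv_eq_iff_eq_mul]
  exact Subtype.ext (mul_sympTransvection g.2 v c)

/-- the `t_i` -/
theorem exists_t {w : V6} (hw : w ≠ 0) : ∃ g : ↥PP, ∃ t : ↥PP, (t : Gm) = g * xp 25 * (g : Gm)⁻¹ ∧ ff t = transv w 1 := by
  have h25 : xp 25 ∈ PP := xp_PP (by decide : 25 ∈ rC)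
  have he : e3v ≠ 0 := by
    intro h
    have := congrFun h (Sum.inl 2)
    revert this
    decide
  obtain ⟨A, hA⟩ := H150.F43.Swap.exists_mulVec e3v w he hw
  obtain ⟨g, hg⟩ := ff_surj A
  obtain ⟨t, ht1, ht2⟩ := exists_gen (G := Gm) ff h25 g
  refine ⟨g, t, ht1, ?_⟩
  have h1 : ff ⟨xp 25, h25⟩ = transv e3v 1 := Subtype.ext tv_eq
  rw [ht2, h1, hg, conj_tv, hA]

theorem rC_S8 : ∀ r ∈ S8, r ∈ rC ∨ r = 24 ∨ r = 23 := by decide

/-- **Box (A).** -/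
theorem boxA_of (hg6 : ∃ v : Fin 6 → V6, (∀ i, v i ≠ 0) ∧
    Subgroup.closure (Set.range fun i => (transv (v i) 1 : Sp)) = ⊤) {V : Type v} [AddCommGroup V] [Module ℂ V]
    [FiniteDimensional ℂ V] (ρ : Representation ℂ Gm V) (h : fx ρ Set.univ = ⊥) :
    2187 * finrank ℂ ↥(fx ρ (QQ : Set Gm)) ≤ 55 * (finrank ℂ V - finrank ℂ ↥(fx ρ {xp 47})) := by
  obtain ⟨ω, hω, hω1⟩ := exists_omega
  obtain ⟨w, hw0, hw⟩ := hg6
  obtain ⟨I5, hI, hIc, hIQ⟩ := exists_I5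
  obtain ⟨I7, hJ, hJc, hJP⟩ := exists_I7
  choose g t ht hft using fun i => exists_t (hw0 i)
  have hN := nn3_add ρ (xp_pow3 (r := 47) (by norm_num)) hω
  -- the six steps
  have h1 := steps ρ (Q := QQ) (c := 3 ^ 5) (N := nn3 ρ (xp 47) ω) (by norm_num) hω hω1
    (List.ofFn fun i => ((t i : ↥PP) : Gm)) (by
      intro x hx
      obtain ⟨i, rfl⟩ := (List.mem_ofFn' _ _).1 hx
      refine ⟨I5.map (MulAut.conj (g i : Gm)).toMonoidHom, ?_, ?_, ?_, ?_⟩
      · show Iso ((t i : ↥PP) : Gm) _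
        rw [ht i]
        exact hI.conj _
      · rw [card_conj, hIc]
      · rintro _ ⟨q, hq, rfl⟩
        exact conj_QQ (g i).2 (hIQ hq)
      · show nn3 ρ ((t i : ↥PP) : Gm) ω = _
        rw [ht i, nn3, ei_conj, ei_conj]
        exact nn3_cj ρ cj_25 hω) (fx ρ (QQ : Set Gm)) le_rfl
  rw [List.length_ofFn] at h1
  -- the fixed space of `PP`
  have h2 : fx ρ (QQ : Set Gm) ⊓ fx ρ {x | x ∈ List.ofFn fun i => ((t i : ↥PP) : Gm)} ≤ fx ρ (PP : Set Gm) := by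
    rintro v ⟨hv1, hv2⟩
    let S : Subgroup Gm :=
      { carrier := {x | ρ x v = v}
        mul_mem' := by
          intro a b ha hb
          show ρ (a * b) v = v
          rw [mm, show ρ b v = v from hb, show ρ a v = v from ha]
        one_mem' := by
          show ρ 1 v = v
          rw [map_one]; rfl
        inv_mem' := by
          intro a ha
          show ρ a⁻¹ v = v
          have ha' : ρ a v = v := ha
          calc ρ a⁻¹ v = ρ a⁻¹ (ρ a v) := by rw [ha']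
            _ = v := by rw [← mm, inv_mul_cancel, map_one]; rfl }
    have e1 : ff.ker ≤ S.subgroupOf PP := fun x hx => hv1 _ (ker_mem.1 hx)
    have e2 : (S.subgroupOf PP).map ff = ⊤ := by
      rw [eq_top_iff, ← hw, Subgroup.closure_le]
      rintro _ ⟨i, rfl⟩
      exact ⟨t i, hv2 _ ((List.mem_ofFn' _ _).2 ⟨i, rfl⟩), hft i⟩
    have e3 : S.subgroupOf PP = ⊤ := by
      have e4 := Subgroup.comap_map_eq ff (S.subgroupOf PP)
      rw [e2, Subgroup.comap_top, sup_eq_left.2 e1] at e4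
      exact e4.symm
    intro x hx
    have e5 : (⟨x, hx⟩ : ↥PP) ∈ S.subgroupOf PP := by rw [e3]; exact Subgroup.mem_top _
    exact e5
  -- the last step
  have h3 := step_num ρ hJ hJc (by norm_num) hω hω1
    (F := fx ρ (QQ : Set Gm) ⊓ fx ρ {x | x ∈ List.ofFn fun i => ((t i : ↥PP) : Gm)})
    (h2.trans (fx_mono ρ (hJP PP L7_PP)))
  rw [nn3_cj ρ cj_23 hω] at h3
  have h4 : fx ρ (QQ : Set Gm) ⊓ fx ρ {x | x ∈ List.ofFn fun i => ((t i : ↥PP) : Gm)} ⊓ fx ρ {xp 23} = ⊥ := by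
    rw [eq_bot_iff, ← h]
    rintro v ⟨hv1, hv2⟩
    have hv3 := h2 hv1
    let S : Subgroup Gm :=
      { carrier := {x | ρ x v = v}
        mul_mem' := by
          intro a b ha hb
          show ρ (a * b) v = v
          rw [mm, show ρ b v = v from hb, show ρ a v = v from ha]
        one_mem' := by
          show ρ 1 v = v
          rw [map_one]; rfl
        inv_mem' := by
          intro a ha
          show ρ a⁻¹ v = v
          have ha' : ρ a v = v := ha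
          calc ρ a⁻¹ v = ρ a⁻¹ (ρ a v) := by rw [ha']
            _ = v := by rw [← mm, inv_mul_cancel, map_one]; rfl }
    have e1 : S = ⊤ := by
      apply gen8
      intro r hr
      rcases rC_S8 r hr with h5 | rfl | rfl
      · exact hv3 _ (xp_PP h5)
      · exact hv3 _ (QQ_le (xp_mem (by decide)))
      · exact hv2 _ rfl
    intro x _
    have e2 : x ∈ S := by rw [e1]; exact Subgroup.mem_top _
    exact e2
  rw [h4, finrank_bot, mul_zero, zero_add] at h3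
  omega

end Cfsg.Agent.H186.F43
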