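import Cfsg.Agent.H186.F43.BoxA
import Cfsg.Agent.H188.F43.GenSix

/-!
# `F₄(3)`: box (A) without hypotheses (S2464; helper186)
-/

set_option autoImplicit false

namespace Cfsg.Agent.H186.F43

open Cfsg.Lie Cfsg.Agent.H700.F43
open Module

universe v

/-- **Box (A).** `2187 · dim V^Q ≤ 55 · (dim V - dim V^Z)`. -/
theorem boxA {V : Type v} [AddCommGroup V] [Module ℂ V] [FiniteDimensional ℂ V] (ρ : Representation ℂ Gm V)
    (h : fx ρ Set.univ = ⊥) :
    2187 * finrank ℂ ↥(fx ρ (QQ : Set Gm)) ≤ 55 * (finrank ℂ V - finrank ℂ ↥(fx ρ {xp 47})) :=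
  boxA_of H188.F43.gen6 ρ h

end Cfsg.Agent.H186.F43
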